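import Cfsg.Agent.Spor.J4N1.D0

set_option autoImplicit false
set_option maxRecDepth 100000000
set_option Elab.async false

namespace Cfsg.Agent.Spor.J4N1

theorem ok0 : Net.okb 1 n0 = true := by decide +kernel

theorem ok1 : Net.okb 1 n1 = true := by decide +kernel

theorem ok2 : Net.okb 1 n2 = true := by decide +kernel

theorem rel0 : T.rel 1 [1, 1] 0 1 = true := by decide +kernel

theorem rel1 : T.rel 1 [2, 2, 2] 0 1 = true := by decide +kernel

theorem rel2 : T.rel 1 [2, 1, 2, 1, 2, 1, 2, 1, 2, 1, 2, 1, 2, 1, 2, 1, 2, 1, 2, 1, 2, 1, 2, 1, 2, 1, 2, 1, 2, 1, 2, 1, 2, 1, 2, 1, 2, 1, 2, 1, 2, 1, 2, 1, 2, 1] 0 1 = true := by decide +kernel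

theorem rel3 : T.rel 1 [2, 1, 2, 1, 5, 4, 5, 4, 2, 1, 2, 1, 5, 4, 5, 4, 2, 1, 2, 1, 5, 4, 5, 4, 2, 1, 2, 1, 5, 4, 5, 4, 2, 1, 2, 1, 5, 4, 5, 4] 0 1 = true := by decide +kernel

theorem rel4 : T.rel 1 [5, 1, 5, 1, 2, 1, 5, 1, 5, 1, 2, 1, 5, 1, 5, 1, 2, 1, 5, 1, 2, 1, 2, 1, 5, 1, 2, 1, 2, 1, 5, 1, 2, 1, 2, 1] 0 1 = true := by decide +kernel

theorem rel5 : T.rel 1 [3, 3] 0 1 = true := by decide +kernel

theorem rel6 : T.rel 1 [2, 1, 2, 1, 2, 1, 5, 1, 5, 1, 2, 1, 2, 3, 5, 4, 5, 4, 2, 4, 2, 4, 5, 4, 5, 4, 5, 6] 0 1 = true := by decide +kernel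

theorem rel7 : T.rel 1 [1, 3, 4, 6] 0 1 = true := by decide +kernel

theorem rel8 : T.rel 1 [2, 3, 1] 0 1 = true := by decide +kernel

theorem hcov : T.treeCov (ones 1) L 1 = true := by decide +kernel

theorem hg : lall (fun z => band (memL L z) (band (sub (ones 1) (T.let z).cl) (T.closed (ones 1) z))) gs = true := by decide +kernel

theorem hivk : ivOk (2 * 0) EX IV = true := by decide +kernel

theorem hrt : RT.ok (2 * 0) EX RL = true := by decide +kernel

theorem hdefs : defs F 4 = true := by decide +kernel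

noncomputable def st0_l : List Nat := [nat_lit 0x1, nat_lit 0x100000002, nat_lit 0x2801, nat_lit 0x40000000003403, nat_lit 0x40000480003403, nat_lit 0x280004402, nat_lit 0x680003802, nat_lit 0x78000080000000015000078000080000000015000078000080000000015000078000080000000015000078000080000000015000078000080000000015000078000080000000015000078000080000000015000078000080000000015000078000080000000015000078000080000000015000078000082e, nat_lit 0x100000b80002403, nat_lit 0xc00004802, nat_lit 0xc00000802, nat_lit 0x1a0000e80006803, nat_lit 0x80007c02, nat_lit 0x300008002, nat_lit 0x8801, nat_lit 0x230001080008803, nat_lit 0x1300009002, nat_lit 0x138000a40004200007000138000a40004200007000138000a40004200007000138000a40004200007000138000a40004200007000138000a40004200007000138000a40004200007000138000a40004200007000138000a40004200007000138000a40004200007000138000a40004200007000138000a42e, nat_lit 0x38000ac02]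
theorem st0 : band (steps F IV RT base st0_l 4) (Nat.beq (Nat.add 4 (llen st0_l)) 23) = true := by decide +kernel

theorem ep0a : T.treePath [] (Nat.shiftLeft 1 0) 1 = true := by decide +kernel

theorem ep0b : T.treePath [] (Nat.shiftLeft 1 0) 1 = true := by decide +kernel

theorem ep0c : band (lall (fun z => Nat.ble z 255) ([] ++ 1 :: [])) (concl F IV 23 0x8001 (encA ([] ++ 1 :: []) 0)) = true := by decide +kernel

theorem ep0d : band (Rule.ok (2 * 0) EX [] ⟨lapp [] [], [], 0, false⟩) (band (lall (memL L) []) (lall (memL L) [])) = true := by decide +kernel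

theorem cov1 : T.cover 1 [(Nat.shiftLeft 1 0)] = true := by decide +kernel

theorem tl1 : Nat.beq (T.let 1).tt 0 = true := by decide +kernel

theorem ep1a : T.treePath [] (Nat.shiftLeft 1 0) 1 = true := by decide +kernel

theorem ep1b : T.treePath [] (Nat.shiftLeft 1 0) 1 = true := by decide +kernel

theorem ep1c : band (lall (fun z => Nat.ble z 255) ([] ++ 2 :: [])) (concl F IV 23 0xb001 (encA ([] ++ 2 :: []) 0)) = true := by decide +kernel

theorem ep1d : band (Rule.ok (2 * 0) EX [] ⟨lapp [] [], [], 0, false⟩) (band (lall (memL L) []) (lall (memL L) [])) = true := by decide +kernel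

theorem cov2 : T.cover 2 [(Nat.shiftLeft 1 0)] = true := by decide +kernel

theorem tl2 : Nat.beq (T.let 2).tt 0 = true := by decide +kernel

theorem rot3_1 : T.rot 3 [1, 2] (sel (ones 1) ip3 1) = true := by decide +kernel

theorem rot3_1r : band (Rule.ok (2 * 0) EX RL ⟨3 :: [1, 2], [3], 8, true⟩) (lall (memL L) [1, 2]) = true := by decide +kernel

theorem cov3 : T.cover 3 [(sel (ones 1) ip3 1)] = true := by decide +kernel

theorem tl3 : Nat.beq (T.let 3).tt 0 = true := by decide +kernel

theorem rot4_1 : T.rot 4 [1] (sel (ones 1) ip4 1) = true := by decide +kernel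

theorem rot4_1r : band (Rule.ok (2 * 0) EX RL ⟨4 :: [1], [], 9, false⟩) (lall (memL L) [1]) = true := by decide +kernel

theorem cov4 : T.cover 4 [(sel (ones 1) ip4 1)] = true := by decide +kernel

theorem tl4 : Nat.beq (T.let 4).tt 0 = true := by decide +kernel

theorem rot5_1 : T.rot 5 [2] (sel (ones 1) ip5 1) = true := by decide +kernel

theorem rot5_1r : band (Rule.ok (2 * 0) EX RL ⟨5 :: [2], [], 9, false⟩) (lall (memL L) [2]) = true := by decide +kernel

theorem cov5 : T.cover 5 [(sel (ones 1) ip5 1)] = true := by decide +kernel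

theorem tl5 : Nat.beq (T.let 5).tt 0 = true := by decide +kernel

theorem rot6_1 : T.rot 6 [5, 4] (sel (ones 1) ip6 1) = true := by decide +kernel

theorem rot6_1r : band (Rule.ok (2 * 0) EX RL ⟨6 :: [5, 4], [0], 8, false⟩) (lall (memL L) [5, 4]) = true := by decide +kernel

theorem cov6 : T.cover 6 [(sel (ones 1) ip6 1)] = true := by decide +kernel

theorem tl6 : Nat.beq (T.let 6).tt 0 = true := by decide +kernel

end Cfsg.Agent.Spor.J4N1
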