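import Cfsg.Agent.Spor.Chk

set_option autoImplicit false
set_option maxRecDepth 100000000
set_option Elab.async false
noncomputable section

namespace Cfsg.Agent.Spor.J4N1

def n0 : Net := Net.nil

def n1 : Net := Net.nil

def n2 : Net := Net.nil

def ip1 : List Nat := []
def l1 : Let := ⟨0, false, 0x1, 0x0, [0x0, 0x0]⟩

def ip2 : List Nat := []
def l2 : Let := ⟨1, false, 0x1, 0x0, [0x0, 0x0]⟩

def ip3 : List Nat := [0x1]
def l3 : Let := ⟨2, false, 0x1, 0x0, [0x1, 0x0]⟩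

def ip4 : List Nat := [0x1]
def l4 : Let := ⟨0, true, 0x1, 0x0, [0x1, 0x0]⟩

def ip5 : List Nat := [0x1]
def l5 : Let := ⟨1, true, 0x1, 0x0, [0x1, 0x0]⟩

def ip6 : List Nat := [0x1]
def l6 : Let := ⟨2, true, 0x1, 0x0, [0x0, 0x1]⟩

def F : Nat := nat_lit 0x200000000000000004000000200004000040100004000040300000000000300004000000100000000000000001000010500000000010200000000000000002000010000003000030500000000020500001000020100003000020400003000020300000000000300002000000100001000040200000000030300001000020200001000010100000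

def rt0_15 : RTree := RTree.node 0x20301 ⟨[2, 3, 1], [], 8, true⟩ (RTree.node 0x303 ⟨[3, 3], [], 5, true⟩ (RTree.node 0x104 ⟨[1, 4], [], 9, false⟩ (RTree.node 0x101 ⟨[1, 1], [], 0, true⟩ (RTree.leaf) (RTree.leaf)) (RTree.node 0x205 ⟨[2, 5], [], 9, false⟩ (RTree.leaf) (RTree.leaf))) (RTree.node 0x502 ⟨[5, 2], [], 9, false⟩ (RTree.node 0x401 ⟨[4, 1], [], 9, false⟩ (RTree.leaf) (RTree.leaf)) (RTree.node 0x20202 ⟨[2, 2, 2], [], 1, true⟩ (RTree.leaf) (RTree.leaf)))) (RTree.node 0x1060403 ⟨[1, 6, 4, 3], [5], 7, false⟩ (RTree.node 0x50406 ⟨[5, 4, 6], [3], 8, false⟩ (RTree.node 0x30102 ⟨[3, 1, 2], [3], 8, true⟩ (RTree.leaf) (RTree.leaf)) (RTree.node 0x1030406 ⟨[1, 3, 4, 6], [], 7, true⟩ (RTree.leaf) (RTree.leaf))) (RTree.node 0x2010201020102010201020102010201020102010201020102010201020102010201020102010201020102010201 ⟨[2, 1, 2, 1, 2, 1, 2, 1, 2, 1, 2,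 1, 2, 1, 2, 1, 2, 1, 2, 1, 2, 1, 2, 1, 2, 1, 2, 1, 2, 1, 2, 1, 2, 1, 2, 1, 2, 1, 2, 1, 2, 1, 2, 1, 2, 1], [], 2, true⟩ (RTree.node 0x4060103 ⟨[4, 6, 1, 3], [5, 1], 7, true⟩ (RTree.leaf) (RTree.leaf)) (RTree.node 0x5040504050405040504050405040504050405040504050405040504050405040504050405040504050405040504 ⟨[5, 4, 5, 4, 5, 4, 5, 4, 5, 4, 5, 4, 5, 4, 5, 4, 5, 4, 5, 4, 5, 4, 5, 4, 5, 4, 5, 4, 5, 4, 5, 4, 5, 4, 5, 4, 5, 4, 5, 4, 5, 4, 5, 4, 5, 4], [3], 2, false⟩ (RTree.leaf) (RTree.leaf))))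
def RT : RTree := rt0_15

def NT : List Net := [n0, n1, n2]
def LT : List Let := [⟨0, false, 0, 0, []⟩, l1, l2, l3, l4, l5, l6]
def T : Tab := ⟨NT, LT⟩
def EX : List (List Nat) := [[], [0], [2], [4], [1], [3], [5]]
def RL : List (List Nat) := [[0, 0], [2, 2, 2], [0, 2, 0, 2, 0, 2, 0, 2, 0, 2, 0, 2, 0, 2, 0, 2, 0, 2, 0, 2, 0, 2, 0, 2, 0, 2, 0, 2, 0, 2, 0, 2, 0, 2, 0, 2, 0, 2, 0, 2, 0, 2, 0, 2, 0, 2], [1, 3, 1, 3, 0, 2, 0, 2, 1, 3, 1, 3, 0, 2, 0, 2, 1, 3, 1, 3, 0, 2, 0, 2, 1, 3, 1, 3, 0, 2, 0, 2, 1, 3, 1, 3, 0, 2, 0, 2], [0, 2, 0, 2, 0, 3, 0, 2, 0, 2, 0, 3, 0, 2, 0, 2, 0, 3, 0, 2, 0, 3, 0, 3, 0, 2, 0, 3, 0, 3, 0, 2, 0, 3, 0, 3], [4, 4], [5, 3, 1, 3, 1, 3, 1, 2, 1, 2, 1, 3, 1, 3, 4, 2, 0, 2, 0, 3, 0, 3, 0, 2, 0, 2, 0, 2], [5, 1, 4, 0], [0, 4, 2]]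
def XL : List (List Nat) := []
def BW : List (List Nat) := []
def IV : Nat := 0x3020106050400
def L : List Nat := [1, 2, 3, 4, 5, 6]
def gs : List Nat := [1, 2, 3]
def base : List Nat := []

end Cfsg.Agent.Spor.J4N1
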